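import Cfsg.Agent.Helper61.Sr.Basic

/-!
# core of (NPfin_of) for helper61 (S3572): `F1`, `F1'` and the inverse-closedness of `S`-sets are
hypotheses
-/

set_option autoImplicit false
set_option linter.unusedSectionVars false
set_option linter.unusedVariables false

namespace Cfsg.Agent.Helper10.Sr

open Finset DihedralGroup Cfsg.Agent.Helper61.Sr Cfsg.Agent.Helper61.Dih

variable {n : ℕ} [NeZero n] (S : SRing (DihedralGroup n))

theorem r_eq_one_iff (x : ZMod n) : (r x : DihedralGroup n) = 1 ↔ x = 0 := by
  rw [DihedralGroup.one_def]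
  constructor
  · intro h
    injection h
  · rintro rfl
    rfl

/-- (NPfin), with `F1`, `F1'`, `isSet_inv_mem` as hypotheses -/
theorem NPfin_core
    (hF1 : ∀ T : Finset (DihedralGroup n), S.IsSet T → T.Nonempty → (1 : DihedralGroup n) ∉ T →
      ∃ j : ZMod n, sr j ∈ T)
    (hF1' : ∀ T : Finset (DihedralGroup n), S.IsSet T → T.Nonempty → (1 : DihedralGroup n) ∉ T →
      ∃ i : ZMod n, r i ∈ T)
    (hinv : ∀ T : Finset (DihedralGroup n), S.IsSet T → ∀ d ∈ T, d⁻¹ ∈ T)
    (p : ℕ) [Fact p.Prime]
    (K : AddSubgroup (ZMod n)) (hK : K ≠ ⊤) (R : Finset (DihedralGroup n)) (hR : S.IsSet R)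
    (hne : R.Nonempty) (h1 : (1 : DihedralGroup n) ∉ R) (hAK : ∀ i ∈ rotPart R, i ∈ K)
    (hper : PerOff p (rotPart R))
    (hdich : (∀ u : ZMod n, p • u = 0 → u ≠ 0 → u ∉ rotPart R) ∨
      (∀ u : ZMod n, p • u = 0 → u ≠ 0 → u ∈ rotPart R))
    (hC2 : ∀ T : Finset (DihedralGroup n), S.IsSet T → Per p (rotPart T) → ∃ lam : ℕ, IsDs T lam)
    (hQf : ∀ (T : Finset (DihedralGroup n)) (lam : ℕ), (∀ d ∈ T, d⁻¹ ∈ T) → IsDs T lam →
      2 ≤ T.card → (∀ i ∈ rotPart T, i ∈ K) → False) : False := by
  classical
  have hzero : (0 : ZMod n) ∉ rotPart R := by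
    rw [mem_rotPart, ← DihedralGroup.one_def]
    exact h1
  have htor : ∀ x u : ZMod n, p • u = 0 → p • x = 0 → p • (x + u) = 0 := by
    intro x u hu hx
    rw [smul_add, hu, hx, add_zero]
  rcases hdich with hd | hd
  · -- no nonzero torsion element in the rotation part
    have hnot : ∀ x : ZMod n, p • x = 0 → x ∉ rotPart R := by
      intro x hx
      by_cases h0 : x = 0
      · rw [h0]; exact hzero
      · exact hd x hx h0
    have hP : Per p (rotPart R) := by
      intro x u hu
      by_cases hx : p • x = 0
      · exact ⟨fun h => absurd h (hnot x hx), fun h => absurd h (hnot _ (htor x u hu hx))⟩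
      · exact hper x u hu hx
    obtain ⟨lam, hds⟩ := hC2 R hR hP
    obtain ⟨i, hi⟩ := hF1' R hR hne h1
    obtain ⟨j, hj⟩ := hF1 R hR hne h1
    have hcard : 2 ≤ R.card := by
      have : 1 < R.card := Finset.one_lt_card.mpr ⟨r i, hi, sr j, hj, by simp⟩
      omega
    exact hQf R lam (hinv R hR) hds hcard hAK
  · -- every nonzero torsion element is in the rotation part
    have hrot : ∀ x : ZMod n, x ∈ rotPart (insert 1 R) ↔ x = 0 ∨ x ∈ rotPart R := by
      intro x
      rw [mem_rotPart, mem_insert, r_eq_one_iff, mem_rotPart]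
    have hall : ∀ x : ZMod n, p • x = 0 → x ∈ rotPart (insert 1 R) := by
      intro x hx
      rw [hrot]
      by_cases h0 : x = 0
      · exact Or.inl h0
      · exact Or.inr (hd x hx h0)
    have hP : Per p (rotPart (insert 1 R)) := by
      intro x u hu
      by_cases hx : p • x = 0
      · exact ⟨fun _ => hall _ (htor x u hu hx), fun _ => hall x hx⟩
      · have hxu : p • (x + u) ≠ 0 := by
          intro h
          apply hx
          have := htor (x + u) (-u) (by rw [smul_neg, hu, neg_zero]) h
          rwa [add_neg_cancel_right] at this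
        have hx0 : x ≠ 0 := by
          rintro rfl
          exact hx (smul_zero _)
        have hxu0 : x + u ≠ 0 := by
          intro h
          rw [h] at hxu
          exact hxu (smul_zero _)
        rw [hrot, hrot]
        constructor
        · rintro (h | h)
          · exact absurd h hx0
          · exact Or.inr ((hper x u hu hx).1 h)
        · rintro (h | h)
          · exact absurd h hxu0
          · exact Or.inr ((hper x u hu hx).2 h)
    have hR' : S.IsSet (insert 1 R) := isSet_insert_one S hR
    obtain ⟨lam, hds⟩ := hC2 (insert 1 R) hR' hP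
    have hcard : 2 ≤ (insert 1 R).card := by
      rw [Finset.card_insert_of_notMem h1]
      have := hne.card_pos
      omega
    refine hQf (insert 1 R) lam (hinv _ hR') hds hcard ?_
    intro i hi
    rcases (hrot i).1 hi with h | h
    · rw [h]; exact K.zero_mem
    · exact hAK i h

end Cfsg.Agent.Helper10.Sr
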