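import Cfsg.Agent.Helper41.Sr.D12
import Cfsg.Agent.Helper10.Sr.NPfinCore

/-!
# (NPfin_of) for helper61 (S3572): VERBATIM statement, built on `F1`, `F1'` of helper41
-/

set_option autoImplicit false
set_option linter.unusedSectionVars false
set_option linter.unusedVariables false

namespace Cfsg.Agent.Helper10.Sr

open Finset DihedralGroup Cfsg.Agent.Helper61.Sr Cfsg.Agent.Helper61.Dih

variable {n : ℕ} [NeZero n] (S : SRing (DihedralGroup n))

/-- every basic set of a primitive S-ring over a dihedral group is closed under inversion -/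
theorem rel_inv_of_prim (hS : S.IsPrim) (x : DihedralGroup n) : S.rel x x⁻¹ := by
  by_cases hx : x = 1
  · subst hx; rw [_root_.inv_one]; exact S.refl 1
  obtain ⟨j, hj⟩ := Cfsg.Agent.Helper41.Sr.F1 S hS (S.cls x) (isSet_cls S x) ⟨x, self_mem_cls S x⟩
    (one_notMem_cls S hx)
  rw [mem_cls] at hj
  have := S.inv_rel hj
  rw [inv_sr] at this
  exact S.trans hj (S.symm this)

theorem inv_mem_of_isSet (hS : S.IsPrim) {T : Finset (DihedralGroup n)} (hT : S.IsSet T) :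
    ∀ d ∈ T, d⁻¹ ∈ T := fun d hd => (hT d d⁻¹ (rel_inv_of_prim S hS d)).mp hd

/-- (NPfin) -/
theorem NPfin_of (hn : 3 ≤ n) (hS : S.IsPrim) (p : ℕ) [Fact p.Prime] (hpn : p ∣ n)
    (K : AddSubgroup (ZMod n)) (hK : K ≠ ⊤) (R : Finset (DihedralGroup n)) (hR : S.IsSet R)
    (hne : R.Nonempty) (h1 : (1 : DihedralGroup n) ∉ R) (hAK : ∀ i ∈ rotPart R, i ∈ K)
    (hper : PerOff p (rotPart R))
    (hdich : (∀ u : ZMod n, p • u = 0 → u ≠ 0 → u ∉ rotPart R) ∨
      (∀ u : ZMod n, p • u = 0 → u ≠ 0 → u ∈ rotPart R))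
    (hC2 : ∀ T : Finset (DihedralGroup n), S.IsSet T → Per p (rotPart T) → ∃ lam : ℕ, IsDs T lam)
    (hQf : ∀ (T : Finset (DihedralGroup n)) (lam : ℕ), (∀ d ∈ T, d⁻¹ ∈ T) → IsDs T lam →
      2 ≤ T.card → (∀ i ∈ rotPart T, i ∈ K) → False) : False :=
  NPfin_core S (fun T hT hne h1 => Cfsg.Agent.Helper41.Sr.F1 S hS T hT hne h1)
    (fun T hT hne h1 => Cfsg.Agent.Helper41.Sr.F1' S (by omega) hS T hT hne h1)
    (fun T hT => inv_mem_of_isSet S hS hT) p K hK R hR hne h1 hAK hper hdich hC2 hQf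

end Cfsg.Agent.Helper10.Sr
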