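import Cfsg.Agent.Helper61.Sr.Basic

/-!
# (RAT_of) for helper61 (S3572): the rational closure of the rotation part of an `S`-set
-/

set_option autoImplicit false
set_option linter.unusedSectionVars false
set_option linter.unusedVariables false

namespace Cfsg.Agent.Helper10.Sr

open Finset DihedralGroup Cfsg.Agent.Helper61.Sr Cfsg.Agent.Helper61.Dih

variable {n : ℕ} [NeZero n] (S : SRing (DihedralGroup n))

/-- (RAT) the rational closure -/
theorem RAT_of (hn : 3 ≤ n) (T : Finset (DihedralGroup n)) (hT : S.IsSet T)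
    (h1 : (1 : DihedralGroup n) ∉ T)
    (hPL : ∀ l : ℕ, l.Prime → 2 * n < l → ∃ T' : Finset (DihedralGroup n), S.IsSet T' ∧
      (∀ x : ZMod n, x ∈ rotPart T' ↔ ∃ i ∈ rotPart T, l • i = x) ∧ T'.card = T.card) :
    ∃ R : Finset (DihedralGroup n), S.IsSet R ∧ (1 : DihedralGroup n) ∉ R ∧
      ∀ x : ZMod n, x ∈ rotPart R ↔ ∃ u : (ZMod n)ˣ, ∃ i ∈ rotPart T, (u : ZMod n) * i = x := by
  classical
  -- a prime for every unit
  have hl : ∀ u : (ZMod n)ˣ, ∃ l : ℕ, l.Prime ∧ 2 * n < l ∧ (l : ZMod n) = (u : ZMod n) := by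
    intro u
    obtain ⟨l, hgt, hlp, hlu⟩ := Nat.forall_exists_prime_gt_and_eq_mod u.isUnit (2 * n)
    exact ⟨l, hlp, hgt, hlu⟩
  choose l hlp hlgt hlu using hl
  have hF : ∀ u : (ZMod n)ˣ, ∃ T' : Finset (DihedralGroup n), S.IsSet T' ∧
      (∀ x : ZMod n, x ∈ rotPart T' ↔ ∃ i ∈ rotPart T, (u : ZMod n) * i = x) := by
    intro u
    obtain ⟨T', hT', hrot, -⟩ := hPL (l u) (hlp u) (hlgt u)
    refine ⟨T', hT', fun x => ?_⟩
    rw [hrot x]
    constructor
    · rintro ⟨i, hi, rfl⟩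
      exact ⟨i, hi, by rw [nsmul_eq_mul, hlu u]⟩
    · rintro ⟨i, hi, rfl⟩
      exact ⟨i, hi, by rw [nsmul_eq_mul, hlu u]⟩
  choose F hFset hFrot using hF
  have hzero : (0 : ZMod n) ∉ rotPart T := by
    rw [mem_rotPart, ← DihedralGroup.one_def]
    exact h1
  refine ⟨(univ.biUnion F).erase 1, isSet_erase_one S (isSet_biUnion S univ F (fun u _ => hFset u)),
    notMem_erase _ _, fun x => ?_⟩
  rw [mem_rotPart, mem_erase, mem_biUnion]
  constructor
  · rintro ⟨-, u, -, hu⟩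
    exact ⟨u, (hFrot u x).1 (mem_rotPart.2 hu)⟩
  · rintro ⟨u, i, hi, rfl⟩
    refine ⟨?_, u, mem_univ _, mem_rotPart.1 ((hFrot u _).2 ⟨i, hi, rfl⟩)⟩
    rw [DihedralGroup.one_def]
    intro h
    have h0 : (u : ZMod n) * i = 0 := by
      injection h
    rw [Units.mul_right_eq_zero] at h0
    rw [h0] at hi
    exact hzero hi

end Cfsg.Agent.Helper10.Sr
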